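import Groth.Agent.H52.PicZeroChar
import Groth.Agent.Lib.FEt.GeomConn

/-!
# The classes algebraically equivalent to zero form a group
-/

set_option autoImplicit false
set_option linter.style.haveILetI false
set_option backward.isDefEq.respectTransparency false
set_option backward.isDefEq.respectTransparency.types false
universe u

open CategoryTheory CategoryTheory.Limits MonoidalCategory CartesianMonoidalCategory AlgebraicGeometry
open Groth.Agent.H3

noncomputable section

namespace Groth.Agent.H58AE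

local instance (Y : Scheme.{u}) : PicGrp.Law Y := Groth.Agent.Lib.TensorMod.Invertible.law Y

variable {K : Type u} [Field K]

local notation "S" => Spec (CommRingCat.of K)

/-- The slice `X ⟶ X ⊗ T` at a point. -/
abbrev sl {X T : Over S} (t : 𝟙_ (Over S) ⟶ T) : X ⟶ X ⊗ T := lift (𝟙 X) (toUnit X ≫ t)

/-- Joined to the trivial class by a connected family. -/
def AT (X : Over S) (c : PicLoc.PicSet X.left) : Prop :=
  ∃ (T : Over S), ConnectedSpace T.left ∧ LocallyOfFiniteType T.hom ∧ QuasiCompact T.hom ∧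
    ∃ (a : PicLoc.PicSet (X ⊗ T).left) (t t₀ : 𝟙_ (Over S) ⟶ T),
      PicCalc.ph (sl (X := X) t) a = c ∧ PicCalc.ph (sl (X := X) t₀) a = 1

variable [IsAlgClosed K] {X : Over (Spec (CommRingCat.of K))}

theorem AT.mul {c d : PicLoc.PicSet X.left} (hc : AT X c) (hd : AT X d) : AT X (c * d) := by
  obtain ⟨T, h1, h2, h3, a, t, t₀, ht, ht₀⟩ := hc
  obtain ⟨T', h1', h2', h3', a', t', t₀', ht', ht₀'⟩ := hd
  haveI := h1; haveI := h2; haveI := h3; haveI := h1'; haveI := h2'; haveI := h3'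
  refine ⟨T ⊗ T', Groth.Agent.Lib.FEt.GeomConn.connectedSpace_pullback_of_isAlgClosed K T.hom T'.hom,
    inferInstanceAs (LocallyOfFiniteType (pullback.fst T.hom T'.hom ≫ T.hom)),
    inferInstanceAs (QuasiCompact (pullback.fst T.hom T'.hom ≫ T.hom)),
    PicCalc.ph (X ◁ fst T T') a * PicCalc.ph (X ◁ snd T T') a',
    lift t t', lift t₀ t₀', ?_, ?_⟩
  · have e1 : sl (X := X) (lift t t') ≫ X ◁ fst T T' = sl t := by simp [sl]
    have e2 : sl (X := X) (lift t t') ≫ X ◁ snd T T' = sl t' := by simp [sl]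
    rw [map_mul, ← PicCalc.ph_comp, ← PicCalc.ph_comp, e1, e2, ht, ht']
  · have e1 : sl (X := X) (lift t₀ t₀') ≫ X ◁ fst T T' = sl t₀ := by simp [sl]
    have e2 : sl (X := X) (lift t₀ t₀') ≫ X ◁ snd T T' = sl t₀' := by simp [sl]
    rw [map_mul, ← PicCalc.ph_comp, ← PicCalc.ph_comp, e1, e2, ht₀, ht₀', _root_.mul_one]

theorem AT.one : AT X 1 :=
  ⟨𝟙_ (Over S), inferInstanceAs (ConnectedSpace ↥(Spec (CommRingCat.of K))),
    inferInstanceAs (LocallyOfFiniteType (𝟙 _)), inferInstanceAs (QuasiCompact (𝟙 _)),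
    1, 𝟙 _, 𝟙 _, map_one _, map_one _⟩



omit [IsAlgClosed K] in
/-- Differences of the members of a connected family. -/
theorem AT.of_family {T : Over S} [ConnectedSpace T.left] [LocallyOfFiniteType T.hom]
    [QuasiCompact T.hom] (a : PicLoc.PicSet (X ⊗ T).left) (t t₀ : 𝟙_ (Over S) ⟶ T)
    {c c₀ : PicLoc.PicSet X.left} (hc : PicCalc.ph (sl t) a = c) (hc₀ : PicCalc.ph (sl t₀) a = c₀) :
    AT X (c * c₀⁻¹) := by
  refine ⟨T, inferInstance, inferInstance, inferInstance,
    a * (PicCalc.ph (fst X T) c₀)⁻¹, t, t₀, ?_, ?_⟩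
  · have e : sl (X := X) t ≫ fst X T = 𝟙 X := by simp [sl]
    rw [map_mul, map_inv, ← PicCalc.ph_comp, e, PicCalc.ph_id, hc]
  · have e : sl (X := X) t₀ ≫ fst X T = 𝟙 X := by simp [sl]
    rw [map_mul, map_inv, ← PicCalc.ph_comp, e, PicCalc.ph_id, hc₀, mul_inv_cancel]

theorem AT.isAlgEquivZero {L : X.left.Modules} (hL : PicF.IsInvertible L)
    (h : AT X (PicGrp.cls L hL)) : @Pic13.IsAlgEquivZero K _ X.left ⟨X.hom⟩ L := by
  obtain ⟨T, h1, h2, h3, a, t, t₀, ht, ht₀⟩ := h
  haveI := h1; haveI := h2; haveI := h3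
  exact H52.PicZeroChar.isAlgEquivZero_of_family a t t₀ L hL ht ht₀

end Groth.Agent.H58AE
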