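import Groth.Agent.Lib.Curves.PointIdeal
import Groth.Agent.Lib.Curves.Degree
import Groth.Agent.Lib.Curves.Clifford

/-!
# A section of a nontrivial invertible module of positive degree vanishes at a closed point
-/

set_option autoImplicit false
set_option linter.style.haveILetI false
set_option backward.isDefEq.respectTransparency false
set_option backward.isDefEq.respectTransparency.types false
universe u

open CategoryTheory CategoryTheory.Limits AlgebraicGeometry TopologicalSpace

noncomputable section

namespace Groth.Agent.H58AE

open Groth.Agent Groth.Agent.Lib Groth.Agent.Lib.Curves Groth.Agent.Lib.TensorMod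
open Groth.Agent.Lib.TensorMod.Basic

variable {k : Type u} [Field k] {X : Scheme.{u}} [X.Over (Spec (CommRingCat.of k))]
  [IsProper (X ↘ Spec (CommRingCat.of k))] [IsIntegral X]

/-- A module with a section and positive degree has, at some closed point, a section of the twist
by the ideal of the point. -/
theorem exists_point_section (hdim : topologicalKrullDim X ≤ 1) {L : X.Modules}
    (hL : PicF.IsInvertible L) (h : Nontrivial (Coh.HH X L 0)) (hd : Curv2.deg k X L 1 ≠ 0) :
    ∃ (x : X) (hx : IsClosed ({x} : Set X)),
      Nontrivial (Coh.HH X (CohB1.tensorMod (ClSub.idealMod (PointIdeal.ptI hx)) L) 0) := by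
  haveI := GlobalSections.noetherianSpace_of_proper k X
  obtain ⟨s, hs⟩ := Positivity.exists_section_of_nontrivial h
  let t : Γ(L, ⊤) := s.app ⊤ (1 : Γ(X, ⊤))
  have hst : Clifford.σ L t = s := Modules.Free.unitHom_ext (Clifford.σ_one L t)
  by_contra hne
  push Not at hne
  -- `t` generates everywhere
  have hspan : ∀ y : X, Submodule.span (X.presheaf.stalk y) {L.presheaf.germ ⊤ y trivial t} = ⊤ := by
    intro y
    haveI : CompactSpace X := inferInstance
    obtain ⟨x, hyx, hx⟩ := IsClosed.exists_closed_singleton (S := closure ({y} : Set X))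
      isClosed_closure (Set.singleton_nonempty y).closure
    rcases PointIdeal.span_or_app_eq_zero hx hL t with h1 | h0
    · exact h1 y (specializes_iff_mem_closure.2 hyx)
    · exfalso
      have hz : s ≫ PointIdeal.evQ hx L = 0 := Modules.Free.unitHom_ext (by
        rw [Scheme.Modules.Hom.comp_app]; exact h0)
      have hS := CurveBundle.Twist.shortExact hL (ClSub.Quot.idealSeq_shortExact (PointIdeal.ptI hx))
      haveI := hS.mono_f
      let s' := s ≫ (leftUnit L).inv
      have hs' : s' ≫ tmap (ClSub.toSubscheme (PointIdeal.ptI hx)) (𝟙 L) = 0 := by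
        rw [Category.assoc]; exact hz
      let l := hS.exact.lift s' hs'
      have hl : l ≫ tmap (ClSub.idealModι (PointIdeal.ptI hx)) (𝟙 L) = s' :=
        hS.exact.lift_f s' hs'
      haveI := hne x hx
      apply hs
      have hl0 : l = 0 := by
        refine Modules.Free.unitHom_ext ?_
        exact @Subsingleton.elim _ ((GlobalSections.h0Equiv
          (CohB1.tensorMod (ClSub.idealMod (PointIdeal.ptI hx)) L)).toEquiv.symm.subsingleton) _ _
      have hs0 : s ≫ (leftUnit L).inv = 0 := by
        change s' = 0
        rw [← hl, hl0, Limits.zero_comp]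
      exact (Iso.comp_inv_eq _).1 hs0 |>.trans Limits.zero_comp
  haveI := Positivity.mono_of_ne_zero (PicLoc.isInvertible_structureModule X) hL hs
  haveI : Epi s := by
    rw [Modules.StalkModule.epi_iff_stalkMapₗ_surjective]
    intro y v
    obtain ⟨a, rfl⟩ := Submodule.mem_span_singleton.1 ((hspan y).ge (Submodule.mem_top (x := v)))
    refine ⟨a • (Coh.structureModule X).presheaf.germ ⊤ y trivial (1 : Γ(X, ⊤)), ?_⟩
    change Modules.StalkModule.stalkMapₗ s y _ = _
    rw [map_smul, Modules.StalkModule.stalkMapₗ_germ]
  haveI : IsIso s := isIso_of_mono_of_epi s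
  exact hd ((Euler.deg_eq_of_iso (asIso s).symm 1).trans Degree.deg_structureModule)

end Groth.Agent.H58AE
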