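import Groth.Agent.H34.AbelMono
import Groth.Agent.Lib.Curves.GenusZero
import Groth.Agent.Lib.Curves.Degree
import Groth.Agent.Lib.GrpQ.MonoClosed

/-!
# The classes of the points of a smooth curve as slices of the class of the diagonal
-/

set_option autoImplicit false
set_option linter.style.haveILetI false
set_option backward.isDefEq.respectTransparency false
set_option backward.isDefEq.respectTransparency.types false
universe u

open CategoryTheory CategoryTheory.Limits AlgebraicGeometry TopologicalSpace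

noncomputable section

namespace Groth.Agent.H58AE

open Groth.Agent Groth.Agent.Lib

variable {k : Type u} [Field k] {C : Scheme.{u}} [C.Over (Spec (CommRingCat.of k))]


/-- The ideal of a `k`-point is the ideal of its closed point. -/
theorem ker_eq_ptI [IsSeparated (C ↘ Spec (CommRingCat.of k))] (x : Spec (CommRingCat.of k) ⟶ C) (hx : x ≫ (C ↘ Spec (CommRingCat.of k)) = 𝟙 _)
    (hc : IsClosed ({x (IsLocalRing.closedPoint k)} : Set C)) :
    x.ker = Curves.PointIdeal.ptI hc := by
  rw [H75.RedKer.ker_eq_vanishingIdeal]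
  congr 1
  ext1
  have : Set.range x = {x (IsLocalRing.closedPoint k)} := Set.Subset.antisymm
    (by rintro _ ⟨w, rfl⟩; rw [Subsingleton.elim w (IsLocalRing.closedPoint k)]; rfl)
    (by rintro _ rfl; exact ⟨_, rfl⟩)
  simp only [this, hc.closure_eq]

variable [IsProper (C ↘ Spec (CommRingCat.of k))] [Smooth (C ↘ Spec (CommRingCat.of k))] [GeometricallyConnected (C ↘ Spec (CommRingCat.of k))] [IsIntegral C]

/-- The ideal of the diagonal, a module on `C × C`. -/
def diag : (pullback (C ↘ Spec (CommRingCat.of k)) (C ↘ Spec (CommRingCat.of k))).Modules :=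
  ClSub.idealMod (pullback.diagonal (C ↘ Spec (CommRingCat.of k))).ker

theorem isEffCartier_diag (hdim : ∀ s, topologicalKrullDim ↥((C ↘ Spec (CommRingCat.of k)).fiber s) = 1) :
    BlowUp.IsEffCartierIdeal (pullback.diagonal (C ↘ Spec (CommRingCat.of k))).ker :=
  H34.AbelMono.isEffCartier_graph (C ↘ Spec (CommRingCat.of k)) hdim (Over.mk (C ↘ Spec (CommRingCat.of k))) (𝟙 C) (Category.id_comp _)

theorem isInvertible_diag (hdim : ∀ s, topologicalKrullDim ↥((C ↘ Spec (CommRingCat.of k)).fiber s) = 1) :
    PicF.IsInvertible (diag (k := k) (C := C)) :=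
  ClSub.Cartier.isInvertible_idealMod (isEffCartier_diag hdim)

/-- The slice at a point. -/
abbrev slice (x : Spec (CommRingCat.of k) ⟶ C) (hx : x ≫ (C ↘ Spec (CommRingCat.of k)) = 𝟙 _) : C ⟶ pullback (C ↘ Spec (CommRingCat.of k)) (C ↘ Spec (CommRingCat.of k)) :=
  pullback.lift (𝟙 C) ((C ↘ Spec (CommRingCat.of k)) ≫ x) (by rw [Category.id_comp, Category.assoc, hx, Category.comp_id])

omit [IsProper (C ↘ Spec (CommRingCat.of k))] [Smooth (C ↘ Spec (CommRingCat.of k))] [GeometricallyConnected (C ↘ Spec (CommRingCat.of k))] [IsIntegral C] in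
theorem isPullback_slice (x : Spec (CommRingCat.of k) ⟶ C) (hx : x ≫ (C ↘ Spec (CommRingCat.of k)) = 𝟙 _) :
    IsPullback x x (pullback.diagonal (C ↘ Spec (CommRingCat.of k))) (slice x hx) := by
  refine ⟨⟨?_⟩, ⟨PullbackCone.IsLimit.mk _ (fun s => s.snd ≫ (C ↘ Spec (CommRingCat.of k))) (fun s => ?_) (fun s => ?_)
    (fun s l _ hl => ?_)⟩⟩
  · apply pullback.hom_ext
    · simp
    · simp [reassoc_of% hx]
  all_goals
    have h1 := congrArg (· ≫ pullback.fst (C ↘ Spec (CommRingCat.of k)) (C ↘ Spec (CommRingCat.of k))) s.condition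
    have h2 := congrArg (· ≫ pullback.snd (C ↘ Spec (CommRingCat.of k)) (C ↘ Spec (CommRingCat.of k))) s.condition
    simp at h1 h2
  · rw [Category.assoc, ← h2]
  · rw [Category.assoc, ← h2, h1]
  · rw [← hl, Category.assoc, hx, Category.comp_id]

/-- The slice of the ideal of the diagonal at a point is the ideal of the point. -/
theorem nonempty_slice_diag (hdim : ∀ s, topologicalKrullDim ↥((C ↘ Spec (CommRingCat.of k)).fiber s) = 1)
    (hdC : topologicalKrullDim C = 1)
    (x : Spec (CommRingCat.of k) ⟶ C) (hx : x ≫ (C ↘ Spec (CommRingCat.of k)) = 𝟙 _)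
    (hc : IsClosed ({x (IsLocalRing.closedPoint k)} : Set C)) :
    Nonempty ((Scheme.Modules.pullback (slice x hx)).obj diag ≅
      ClSub.idealMod (Curves.PointIdeal.ptI hc)) := by
  have hcomap : (pullback.diagonal (C ↘ Spec (CommRingCat.of k))).ker.comap (slice x hx) = Curves.PointIdeal.ptI hc := by
    rw [← Scheme.IdealSheafData.ker_fst_of_isClosedImmersion,
      ← (isPullback_slice x hx).flip.isoPullback_inv_fst, Scheme.Hom.ker_comp_of_isIso,
      ker_eq_ptI x hx hc]
  have hgen : genericPoint C ∉ ({x (IsLocalRing.closedPoint k)} : Set C) := fun h => by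
    have hu : ({x (IsLocalRing.closedPoint k)} : Set C) = Set.univ :=
      Set.eq_univ_of_univ_subset ((genericPoint_spec C).ge.trans
        (closure_minimal (Set.singleton_subset_iff.2 h) hc))
    haveI : Subsingleton C := ⟨fun a b => by
      have ha := hu.ge (Set.mem_univ a); have hb := hu.ge (Set.mem_univ b)
      exact (Set.mem_singleton_iff.1 ha).trans (Set.mem_singleton_iff.1 hb).symm⟩
    have := topologicalKrullDim_zero_of_discreteTopology C
    rw [hdC] at this
    exact one_ne_zero (le_antisymm this zero_le_one)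
  rw [← hcomap]
  refine ModelFibre.IdealPull.nonempty_pullback_idealMod (slice x hx) (isEffCartier_diag hdim)
    fun U s _ hs z hz => ?_
  refine mem_nonZeroDivisors_of_ne_zero fun h0 => hgen ?_
  have h1 : (slice x hx).app U.1 s = 0 := by
    refine germ_injective_of_isIntegral C z hz ?_
    rw [map_zero]; exact h0
  obtain ⟨V, hV, hzV, hVU⟩ := exists_isAffineOpen_mem_and_subset
    (U := (slice x hx) ⁻¹ᵁ U.1) (x := z) hz
  have hJ : ((pullback.diagonal (C ↘ Spec (CommRingCat.of k))).ker.comap (slice x hx)).ideal ⟨V, hV⟩ = ⊥ := by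
    rw [Lib.Ideal.Comap.ideal_comap _ _ U ⟨V, hV⟩ hVU, hs, _root_.Ideal.map_span, Set.image_singleton,
      _root_.Ideal.span_singleton_eq_bot, Scheme.Hom.appLE, CommRingCat.hom_comp, RingHom.comp_apply,
      h1, map_zero]
  have hgV : genericPoint C ∈ (V : Set C) :=
    ((genericPoint_spec C).mem_open_set_iff V.2).2 ⟨z, trivial, hzV⟩
  rw [hcomap] at hJ
  have hsupp := Scheme.IdealSheafData.coe_support_inter (Curves.PointIdeal.ptI hc) ⟨V, hV⟩
  rw [Curves.PointIdeal.support_ptI, hJ] at hsupp
  exact (hsupp.ge ⟨by simp [Scheme.zeroLocus], hgV⟩).1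

end Groth.Agent.H58AE
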