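import Groth.Agent.H58AE.Group
import Groth.Agent.H58AE.PointClass
import Groth.Agent.H58AE.Peel
import Groth.Agent.H34.PicDegree

/-!
# Degree zero and algebraic equivalence to zero on a smooth proper curve
-/

set_option autoImplicit false
set_option linter.style.haveILetI false
set_option backward.isDefEq.respectTransparency false
set_option backward.isDefEq.respectTransparency.types false
universe u

open CategoryTheory CategoryTheory.Limits MonoidalCategory CartesianMonoidalCategory AlgebraicGeometry
open Groth.Agent.H3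

noncomputable section

namespace Groth.Agent.H58AE

open Groth.Agent Groth.Agent.Lib

local instance (Y : Scheme.{u}) : PicGrp.Law Y := Groth.Agent.Lib.TensorMod.Invertible.law Y

variable {k : Type u} [Field k] [IsAlgClosed k] (C : Scheme.{u}) [C.Over (Spec (CommRingCat.of k))]
  [IsProper (C ↘ Spec (CommRingCat.of k))] [Smooth (C ↘ Spec (CommRingCat.of k))]
  [GeometricallyConnected (C ↘ Spec (CommRingCat.of k))] [IsIntegral C]

theorem comm_aux {G : Type*} [CommGroup G] (c d q P : G) : c * (q * P) = d * c * q * (P * d⁻¹) := by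
  rw [mul_comm P, mul_assoc d, mul_mul_mul_comm, _root_.mul_inv_cancel, _root_.one_mul, mul_assoc]

local notation "Xo" => Over.mk (C ↘ Spec (CommRingCat.of k))

variable (hdimf : ∀ s, topologicalKrullDim ↥((C ↘ Spec (CommRingCat.of k)).fiber s) = 1)
  (hdim : topologicalKrullDim C = 1)

include hdimf hdim in
/-- Degree zero implies algebraically equivalent to zero. -/
theorem isAlgEquivZero_of_deg_eq_zero {L : C.Modules} (hL : PicF.IsInvertible L)
    (h : Curv2.deg k C L 1 = 0) : Pic13.IsAlgEquivZero k C L := by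
  haveI := Curves.GlobalSections.noetherianSpace_of_proper k C
  have hd1 : topologicalKrullDim C ≤ 1 := hdim.le
  haveI : ConnectedSpace (Xo).left := inferInstanceAs (ConnectedSpace C)
  haveI : LocallyOfFiniteType (Xo).hom :=
    inferInstanceAs (LocallyOfFiniteType (C ↘ Spec (CommRingCat.of k)))
  haveI : QuasiCompact (Xo).hom := inferInstanceAs (QuasiCompact (C ↘ Spec (CommRingCat.of k)))
  let δ : PicLoc.PicSet (Xo ⊗ Xo).left :=
    PicGrp.cls (diag (k := k) (C := C)) (isInvertible_diag hdimf)
  -- every closed point is a slice of the diagonal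
  have hpt : ∀ (x : C) (hx : IsClosed ({x} : Set C)),
      ∃ (p : 𝟙_ (Over (Spec (CommRingCat.of k))) ⟶ Xo)
        (hI : PicF.IsInvertible (ClSub.idealMod (Curves.PointIdeal.ptI hx))),
        PicCalc.ph (sl p) δ = PicGrp.cls _ hI ∧
          Curv2.deg k C (ClSub.idealMod (Curves.PointIdeal.ptI hx)) 1 = -1 := by
    intro x hx
    obtain ⟨p, hp⟩ := GrpQ.MonoClosed.exists_ptOf (X := Xo) (s := ({x} : Set C))
      hx.isLocallyClosed (Set.singleton_nonempty x)
    let q : Spec (CommRingCat.of k) ⟶ C := p.left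
    have hq : q ≫ (C ↘ Spec (CommRingCat.of k)) = 𝟙 _ := Over.w p
    have hp' : q (IsLocalRing.closedPoint k) = x := hp
    subst hp'
    obtain ⟨e⟩ := nonempty_slice_diag hdimf hdim q hq hx
    have hI := TensorMod.Invertible.isInvertible_of_iso e
      (PicLoc.isInvertible_pullback _ (isInvertible_diag hdimf))
    have hgen : genericPoint C ∉ ((Curves.PointIdeal.ptI (X := C) hx).support : Set C) := by
      rw [Curves.PointIdeal.support_ptI]
      intro hg
      have hu : ({q (IsLocalRing.closedPoint k)} : Set C) = Set.univ :=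
        Set.eq_univ_of_univ_subset ((genericPoint_spec C).ge.trans
          (closure_minimal (Set.singleton_subset_iff.2 hg) hx))
      haveI : Subsingleton C := ⟨fun a b => (Set.mem_singleton_iff.1 (hu.ge (Set.mem_univ a))).trans
        (Set.mem_singleton_iff.1 (hu.ge (Set.mem_univ b))).symm⟩
      have h0 := topologicalKrullDim_zero_of_discreteTopology C
      rw [hdim] at h0
      exact one_ne_zero (le_antisymm h0 zero_le_one)
    refine ⟨p, hI, ?_, ?_⟩
    · refine (PicCalc.iso_iff (PicCalc.cl_pullback (sl (X := Xo) p) (L := diag (k := k) (C := C)) (a := δ) rfl)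
        (b := PicGrp.cls _ hI) rfl).1 ⟨?_⟩
      refine (Scheme.Modules.pullbackCongr ?_).app _ ≪≫ e
      refine pullback.hom_ext ?_ ?_
      · exact (congrArg Over.Hom.left (lift_fst (𝟙 Xo) (toUnit Xo ≫ p))).trans
          (pullback.lift_fst _ _ _).symm
      · exact (congrArg Over.Hom.left (lift_snd (𝟙 Xo) (toUnit Xo ≫ p))).trans
          (pullback.lift_snd _ _ _).symm
    · rw [Curves.Degree.deg_idealMod hd1 hI hgen, Curves.PointIdeal.hdim_quot_point_algClosed hx hd1]
      rfl
  haveI : Nonempty C := inferInstance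
  obtain ⟨x₀, -, hx₀⟩ := IsClosed.exists_closed_singleton (S := (Set.univ : Set C)) isClosed_univ
    Set.univ_nonempty
  obtain ⟨p₀, hI₀, hp₀, hdeg₀⟩ := hpt x₀ hx₀
  let P : PicLoc.PicSet C := PicCalc.ph (sl p₀) δ
  -- effective classes
  have key : ∀ (n : ℕ) (M : C.Modules) (hM : PicF.IsInvertible M), Curv2.deg k C M 1 = n →
      Nontrivial (Coh.HH C M 0) → AT Xo (PicGrp.cls M hM * P ^ n) := by
    intro n
    induction n with
    | zero =>
      intro M hM hMd hs
      obtain ⟨s, hs⟩ := Curves.Positivity.exists_section_of_nontrivial hs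
      haveI := Curves.Positivity.isIso_of_deg_eq (k := k) hd1 (PicLoc.isInvertible_structureModule C)
        hM (Curves.Degree.isGood_structureModule hd1) (Curves.Degree.isGood hd1 hM) hs
        (by rw [Curves.Degree.deg_structureModule, hMd]; rfl)
      rw [pow_zero, _root_.mul_one,
        (PicGrp.cls_eq_cls_iff hM (PicLoc.isInvertible_structureModule C)).2 ⟨(asIso s).symm⟩,
        PicGrp.cls_structureModule_eq_one]
      exact AT.one
    | succ n ih =>
      intro M hM hMd hs
      obtain ⟨x, hx, hsx⟩ := exists_point_section hd1 hM hs (by rw [hMd]; omega)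
      obtain ⟨p, hI, hp, hdeg⟩ := hpt x hx
      have hM' := TensorMod.Invertible.isInvertible_tensorMod hI hM
      have h1 := ih _ hM' (by rw [Curves.Degree.deg_tensor hd1 hI hM, hdeg, hMd]; push_cast; ring) hsx
      let D : PicLoc.PicSet C := PicCalc.ph (sl p) δ
      have e : PicGrp.cls _ hM' = D * PicGrp.cls M hM := by
        rw [show D = _ from hp]; exact Subtype.ext (PicGrp.cls_mul_cls_val hI hM).symm
      rw [e] at h1
      have h2 := h1.mul (AT.of_family δ p₀ p (c := P) (c₀ := D) rfl rfl)
      rw [pow_succ]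
      convert h2 using 1
      exact comm_aux _ _ _ _
  -- reduction to an effective class
  let g := Curv2.genus k C
  obtain ⟨M, hM, hMc⟩ := PicGrp.exists_eq_cls (PicGrp.cls L hL * (P ^ g)⁻¹)
  have hdegh : ∀ j : ℕ, ∀ (N : C.Modules) (hN : PicF.IsInvertible N), PicGrp.cls N hN = P ^ j →
      Curv2.deg k C N 1 = -(j : ℤ) := by
    intro j
    induction j with
    | zero =>
      intro N hN e
      rw [pow_zero, ← PicGrp.cls_structureModule_eq_one] at e
      rw [Curves.Euler.deg_eq_of_iso ((PicGrp.cls_eq_cls_iff _ _).1 e).some 1,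
        Curves.Degree.deg_structureModule]
      rfl
    | succ j ihj =>
      intro N hN e
      obtain ⟨N', hN', e'⟩ := PicGrp.exists_eq_cls (P ^ j)
      rw [pow_succ, e', show P = _ from hp₀] at e
      have e2 := congrArg Subtype.val e
      rw [PicGrp.cls_mul_cls_val, PicGrp.cls_val, PicGrp.cl_eq_cl_iff] at e2
      rw [Curves.Euler.deg_eq_of_iso e2.some 1, Curves.Degree.deg_tensor hd1 hN' hI₀, hdeg₀,
        ihj N' hN' e'.symm]
      push_cast; ring
  obtain ⟨N, hN, hNc⟩ := PicGrp.exists_eq_cls (P ^ g)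
  have hMN : (PicGrp.cls M hM * PicGrp.cls N hN).1 = (PicGrp.cls L hL).1 := by
    rw [← hMc, ← hNc, inv_mul_cancel_right]
  rw [PicGrp.cls_mul_cls_val, PicGrp.cls_val, PicGrp.cl_eq_cl_iff] at hMN
  have hMd : Curv2.deg k C M 1 = g := by
    have := Curves.Degree.deg_tensor (k := k) hd1 hM hN
    rw [Curves.Euler.deg_eq_of_iso hMN.some 1, h, hdegh g N hN hNc.symm] at this
    linarith
  have h0 : Module.finrank k (Coh.HH C (Coh.structureModule C) 0) = 1 :=
    CurveFF.finrank_h0_eq_one k C
  have hsec : Nontrivial (Coh.HH C M 0) := by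
    have hrr := Curves.Degree.riemann_roch (k := k) hd1 h0 hM
    haveI := (Curves.Degree.isGood (k := k) hd1 hM).fin₀
    refine Module.nontrivial_of_finrank_pos (R := k) ?_
    simp only [Curves.Euler.hdim] at hrr
    omega
  refine AT.isAlgEquivZero (X := Xo) hL ?_
  have := key g M hM hMd hsec
  rwa [← hMc, inv_mul_cancel_right] at this

omit [Smooth (C ↘ Spec (CommRingCat.of k))] [GeometricallyConnected (C ↘ Spec (CommRingCat.of k))]
  [IsIntegral C] in
/-- Algebraically equivalent to zero implies degree zero. -/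
theorem deg_eq_zero_of_isAlgEquivZero [Flat (C ↘ Spec (CommRingCat.of k))]
    [LocallyOfFinitePresentation (C ↘ Spec (CommRingCat.of k))] (hdimf' : ∀ s,
      topologicalKrullDim ↥((C ↘ Spec (CommRingCat.of k)).fiber s) = 1)
    {L : C.Modules} (h : Pic13.IsAlgEquivZero k C L) :
    Pic13.curveDeg k (C ↘ Spec (CommRingCat.of k)) L = 0 := by
  obtain ⟨T, q, hconn, -, -, M, hM, t, t₀, ht, ht₀, ⟨e⟩, ⟨e₀⟩⟩ := h
  haveI := hconn
  let T' : Over (Spec (CommRingCat.of k)) := Over.mk q
  let fC := C ↘ Spec (CommRingCat.of k)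
  have hval : ∀ (s : Spec (CommRingCat.of k) ⟶ T) (hs : s ≫ q = 𝟙 _) (N : C.Modules),
      (Pic13.fibreMod k C q s hs M ≅ N) →
      Pic13.curveDeg k fC N = H34.PicDegree.D fC T' M (s (IsLocalRing.closedPoint k)) := by
    intro s hs N i
    have hsq : IsPullback (Pic13.sliceAt k C q s hs) fC (PicF.XTproj fC T') s := by
      refine IsPullback.of_right ?_ (pullback.lift_snd _ _ _) (IsPullback.of_hasPullback fC q)
      rw [show Pic13.sliceAt k C q s hs ≫ pullback.fst fC q = 𝟙 C from pullback.lift_fst _ _ _, hs]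
      exact IsPullback.of_horiz_isIso ⟨by rw [Category.id_comp, Category.comp_id]⟩
    have hO := PicLoc.isInvertible_structureModule (PicF.XT fC T')
    have hrk : ∀ (F : (PicF.XT fC T').Modules), PicF.IsInvertible F → ∀ j : ℕ,
        Module.finrank k (Coh.HH C ((Scheme.Modules.pullback (Pic13.sliceAt k C q s hs)).obj F) j) =
          CohIII.fiberRank (PicF.XTproj fC T') F j (s (IsLocalRing.closedPoint k)) := by
      intro F hF j
      have hF' := TensorMod.LocFree.of_rank (TensorMod.LocFree.of_isInvertible hF)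
      haveI : F.IsQuasicoherent := TensorMod.QCohInv.isQCoh_of_isInvertible hF
      exact ExchangeFP29.FieldPoint.finrank_HH_eq (PicF.XTproj fC T') F
        (TensorMod.FPConv.isFP_of_isFinLocFree hF')
        (_root_.ZarCoh.Exchange.NearFibre.isFlatOver_of_isFinLocFree _ hF') fC s _ hsq j
    unfold Pic13.curveDeg FGA.eulerCharLE H34.PicDegree.D
    simp only [Finset.sum_range_succ, Finset.sum_range_zero, pow_zero, pow_one, _root_.one_mul,
      neg_one_mul, zero_add, ← sub_eq_add_neg]
    rw [← hrk M hM 0, ← hrk M hM 1, ← hrk _ hO 0, ← hrk _ hO 1]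
    have e1 : ∀ j, (Curves.Euler.hdim k C N j) = Curves.Euler.hdim k C (Pic13.fibreMod k C q s hs M) j :=
      fun j => Curves.Euler.hdim_eq_of_iso i.symm j
    have e2 : ∀ j, (Curves.Euler.hdim k C (Coh.structureModule C) j) =
        Curves.Euler.hdim k C
          ((Scheme.Modules.pullback (Pic13.sliceAt k C q s hs)).obj (Coh.structureModule _)) j :=
      fun j => Curves.Euler.hdim_eq_of_iso (PicLoc.pullbackStructureIso _).symm j
    simp only [Curves.Euler.hdim] at e1 e2
    simp only [Pic13.fibreMod] at e1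
    rw [← e1, ← e1, e2, e2]
    rfl
  have hlc := H34.PicDegree.isLocallyConstant_D fC hdimf' T' M hM
  haveI : PreconnectedSpace ↥T'.left := inferInstanceAs (PreconnectedSpace T)
  rw [hval t ht L e, hlc.apply_eq_of_preconnectedSpace _ (t₀ (IsLocalRing.closedPoint k)),
    ← hval t₀ ht₀ _ e₀]
  simp [Pic13.curveDeg]

end Groth.Agent.H58AE
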